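import Mathlib.AlgebraicGeometry.Morphisms.Separated
import Mathlib.AlgebraicGeometry.Noetherian
import Groth.Agent.Ega4late.H542.GlueSup

/-!
# Gluing local extensions of a section with prescribed values

* `exists_glue`: gluing along a family of open immersions with common refinements;
* `agree`: two extensions of a morphism on a dense open with values in an affine open agree near a
  reduced point;
* `Dat`, `glueAll`: gluing of local extensions with prescribed values outside of the dense open;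
* `eq_of_pt`: morphisms from the spectrum of a field.
-/

set_option autoImplicit false
universe u
open CategoryTheory CategoryTheory.Limits AlgebraicGeometry TopologicalSpace

namespace K172.GlueZ

/-- Glueing morphisms along a family of jointly surjective open immersions such that
every point in an intersection of two members lies in a common smaller one. -/
theorem exists_glue {X T : Scheme.{u}} {I : Type u} (S : I → Scheme.{u}) (g : ∀ k, S k ⟶ X)
    [∀ k, IsOpenImmersion (g k)] (f : ∀ k, S k ⟶ T)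
    (hcov : ∀ x : X, ∃ k, x ∈ Set.range (g k))
    (hf : ∀ (k l : I) (x : X), x ∈ Set.range (g k) → x ∈ Set.range (g l) →
      ∃ (m : I) (α : S m ⟶ S k) (β : S m ⟶ S l), α ≫ g k = g m ∧ β ≫ g l = g m ∧
        x ∈ Set.range (g m) ∧ α ≫ f k = β ≫ f l) :
    ∃ h : X ⟶ T, ∀ k, g k ≫ h = f k := by
  let 𝒰 : X.OpenCover :=
    { I₀ := I
      X := S
      f := g
      mem₀ := by
        rw [Scheme.presieve₀_mem_precoverage_iff]
        exact ⟨hcov, inferInstance⟩ }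
  refine ⟨𝒰.glueMorphisms f ?_, fun k => 𝒰.ι_glueMorphisms f _ k⟩
  intro k l
  change pullback.fst (g k) (g l) ≫ f k = pullback.snd (g k) (g l) ≫ f l
  apply Scheme.hom_ext_of_forall
  intro y
  obtain ⟨m, α, β, h1, h2, ⟨s, hs⟩, h3⟩ := hf k l ((pullback.fst (g k) (g l) ≫ g k) y)
    ⟨pullback.fst (g k) (g l) y, rfl⟩
    (by rw [pullback.condition]; exact ⟨pullback.snd (g k) (g l) y, rfl⟩)
  let γ : S m ⟶ pullback (g k) (g l) := pullback.lift α β (h1.trans h2.symm)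
  have hγ : γ ≫ (pullback.fst (g k) (g l) ≫ g k) = g m := by
    rw [← Category.assoc, pullback.lift_fst, h1]
  have : IsOpenImmersion γ := by
    have : IsOpenImmersion (γ ≫ (pullback.fst (g k) (g l) ≫ g k)) := by rw [hγ]; infer_instance
    exact .of_comp _ (pullback.fst (g k) (g l) ≫ g k)
  have hγs : γ s = y := by
    apply (pullback.fst (g k) (g l) ≫ g k).isOpenEmbedding.injective
    rw [← Scheme.Hom.comp_apply, hγ, hs]
  refine ⟨γ.opensRange, ⟨s, hγs⟩, ?_⟩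
  rw [← cancel_epi γ.isoOpensRange.hom, Scheme.Hom.isoOpensRange_hom_ι_assoc,
    Scheme.Hom.isoOpensRange_hom_ι_assoc, ← Category.assoc, pullback.lift_fst, ← Category.assoc,
    pullback.lift_snd, h3]

variable {X P : Scheme.{u}}

theorem homOfLE_apply {U V : X.Opens} (h : U ≤ V) (x : X) (hx : x ∈ U) :
    X.homOfLE h ⟨x, hx⟩ = ⟨x, h hx⟩ := by
  apply V.ι.isOpenEmbedding.injective
  rw [← Scheme.Hom.comp_apply, Scheme.homOfLE_ι]
  rfl

/-- The inclusion of `N ⊓ U` in `N` is dominant for `U` dense. -/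
theorem isDominant_homOfLE {U : X.Opens} (hU : Dense (U : Set X)) (N : X.Opens) :
    IsDominant (X.homOfLE (inf_le_left : N ⊓ U ≤ N)) := by
  constructor
  have h1 : Dense (N.ι ⁻¹' (U : Set X)) := hU.preimage N.ι.isOpenEmbedding.isOpenMap
  refine h1.mono ?_
  rintro ⟨x, hx⟩ hxU
  exact ⟨⟨x, ⟨hx, hxU⟩⟩, homOfLE_apply _ _ _⟩

/-- Two extensions of a morphism on a dense open with values in an affine open agree near a
reduced point. -/
theorem agree {U A B : X.Opens} (hU : Dense (U : Set X)) (h : (U : Scheme.{u}) ⟶ P)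
    (a : (A : Scheme.{u}) ⟶ P) (b : (B : Scheme.{u}) ⟶ P)
    (ha : X.homOfLE (inf_le_left : A ⊓ U ≤ A) ≫ a = X.homOfLE (inf_le_right : A ⊓ U ≤ U) ≫ h)
    (hb : X.homOfLE (inf_le_left : B ⊓ U ≤ B) ≫ b = X.homOfLE (inf_le_right : B ⊓ U ≤ U) ≫ h)
    {x : X} (hxA : x ∈ A) (hxB : x ∈ B) {V : P.Opens} (hV : IsAffineOpen V)
    (haV : a ⟨x, hxA⟩ ∈ V) (hbV : b ⟨x, hxB⟩ ∈ V) (W : X.Opens) (hxW : x ∈ W)
    [IsReduced (W : Scheme.{u})] :
    ∃ (N : X.Opens) (hNA : N ≤ A) (hNB : N ≤ B), x ∈ N ∧ N ≤ W ∧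
      X.homOfLE hNA ≫ a = X.homOfLE hNB ≫ b := by
  let NA : X.Opens := A.ι ''ᵁ (a ⁻¹ᵁ V)
  let NB : X.Opens := B.ι ''ᵁ (b ⁻¹ᵁ V)
  have hNA : NA ≤ A := by rintro _ ⟨w, -, rfl⟩; exact w.2
  have hNB : NB ≤ B := by rintro _ ⟨w, -, rfl⟩; exact w.2
  let N : X.Opens := W ⊓ (NA ⊓ NB)
  have hN1 : N ≤ A := (inf_le_right.trans inf_le_left).trans hNA
  have hN2 : N ≤ B := (inf_le_right.trans inf_le_right).trans hNB
  refine ⟨N, hN1, hN2, ⟨hxW, ⟨⟨x, hxA⟩, haV, rfl⟩, ⟨⟨x, hxB⟩, hbV, rfl⟩⟩, inf_le_left, ?_⟩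
  have hNW : N ≤ W := inf_le_left
  have hred : IsReduced (N : Scheme.{u}) := isReduced_of_isOpenImmersion (X.homOfLE hNW)
  have hVaff : IsAffine (V : Scheme.{u}) := hV
  have hra : Set.range (X.homOfLE hN1 ≫ a) ⊆ Set.range V.ι := by
    rintro _ ⟨⟨w, hw⟩, rfl⟩
    rw [Scheme.Opens.range_ι, Scheme.Hom.comp_apply, homOfLE_apply]
    obtain ⟨w', hw', h1⟩ := hw.2.1
    have h2 : w' = ⟨w, hN1 hw⟩ := A.ι.isOpenEmbedding.injective h1
    rw [← h2]
    exact hw'
  have hrb : Set.range (X.homOfLE hN2 ≫ b) ⊆ Set.range V.ι := by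
    rintro _ ⟨⟨w, hw⟩, rfl⟩
    rw [Scheme.Opens.range_ι, Scheme.Hom.comp_apply, homOfLE_apply]
    obtain ⟨w', hw', h1⟩ := hw.2.2
    have h2 : w' = ⟨w, hN2 hw⟩ := B.ι.isOpenEmbedding.injective h1
    rw [← h2]
    exact hw'
  let a' := IsOpenImmersion.lift V.ι (X.homOfLE hN1 ≫ a) hra
  let b' := IsOpenImmersion.lift V.ι (X.homOfLE hN2 ≫ b) hrb
  have ha' : a' ≫ V.ι = X.homOfLE hN1 ≫ a := IsOpenImmersion.lift_fac _ _ _
  have hb' : b' ≫ V.ι = X.homOfLE hN2 ≫ b := IsOpenImmersion.lift_fac _ _ _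
  have hdom := isDominant_homOfLE hU N
  have key : a' = b' := by
    refine ext_of_isDominant (X.homOfLE (inf_le_left : N ⊓ U ≤ N)) ?_
    rw [← cancel_mono V.ι, Category.assoc, Category.assoc, ha', hb',
      Scheme.homOfLE_homOfLE_assoc, Scheme.homOfLE_homOfLE_assoc]
    have h1 := congrArg (fun k => X.homOfLE (inf_le_inf_right U hN1 : N ⊓ U ≤ A ⊓ U) ≫ k) ha
    have h2 := congrArg (fun k => X.homOfLE (inf_le_inf_right U hN2 : N ⊓ U ≤ B ⊓ U) ≫ k) hb
    simp only [Scheme.homOfLE_homOfLE_assoc] at h1 h2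
    rw [h1, h2]
  rw [← ha', ← hb', key]

/-- A section over `N` extending `h` with values prescribed by `y` outside of `U`. -/
structure Dat (q : P ⟶ X) (U : X.Opens) (h : (U : Scheme.{u}) ⟶ P) (y : X → P) (N : X.Opens)
    (a : (N : Scheme.{u}) ⟶ P) : Prop where
  sec : a ≫ q = N.ι
  agr : X.homOfLE (inf_le_left : N ⊓ U ≤ N) ≫ a = X.homOfLE (inf_le_right : N ⊓ U ≤ U) ≫ h
  val : ∀ x (hx : x ∈ N), x ∉ U → a ⟨x, hx⟩ = y x

variable {q : P ⟶ X} {U : X.Opens} {h : (U : Scheme.{u}) ⟶ P} {y : X → P}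

theorem Dat.res {N : X.Opens} {a : (N : Scheme.{u}) ⟶ P} (H : Dat q U h y N a) {N' : X.Opens}
    (hN' : N' ≤ N) : Dat q U h y N' (X.homOfLE hN' ≫ a) where
  sec := by rw [Category.assoc, H.sec, Scheme.homOfLE_ι]
  agr := by
    have h1 := congrArg (fun k => X.homOfLE (inf_le_inf_right U hN' : N' ⊓ U ≤ N ⊓ U) ≫ k) H.agr
    simp only [Scheme.homOfLE_homOfLE_assoc] at h1 ⊢
    exact h1
  val := by
    intro x hx hxU
    rw [Scheme.Hom.comp_apply, homOfLE_apply]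
    exact H.val x (hN' hx) hxU

theorem dat_self (hh : h ≫ q = U.ι) : Dat q U h y U h where
  sec := hh
  agr := rfl
  val := fun _ hx hxU => absurd hx hxU

/-- Gluing local extensions with prescribed values. -/
theorem glueAll (hU : Dense (U : Set X)) (hh : h ≫ q = U.ι)
    (hred : ∀ x : X, x ∉ U → ∃ W : X.Opens, x ∈ W ∧ IsReduced (W : Scheme.{u}))
    (hcov : ∀ x : X, x ∉ U → ∃ (N : X.Opens) (a : (N : Scheme.{u}) ⟶ P), x ∈ N ∧ Dat q U h y N a) :
    ∃ h' : X ⟶ P, h' ≫ q = 𝟙 X ∧ U.ι ≫ h' = h ∧ ∀ x : X, x ∉ U → h' x = y x := by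
  let I : Type u := Σ N : X.Opens, {a : (N : Scheme.{u}) ⟶ P // Dat q U h y N a}
  have hcov' : ∀ x : X, ∃ k : I, x ∈ k.1 := by
    intro x
    by_cases hx : x ∈ U
    · exact ⟨⟨U, h, dat_self hh⟩, hx⟩
    · obtain ⟨N, a, hxN, ha⟩ := hcov x hx
      exact ⟨⟨N, a, ha⟩, hxN⟩
  have hr : ∀ (N : X.Opens) (x : X), x ∈ Set.range N.ι ↔ x ∈ N := by
    intro N x
    rw [Scheme.Opens.range_ι]
    rfl
  obtain ⟨h', hh'⟩ := exists_glue (X := X) (T := P) (fun k : I => (k.1 : Scheme.{u}))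
    (fun k => k.1.ι) (fun k => k.2.1) (fun x => by
      obtain ⟨k, hk⟩ := hcov' x
      exact ⟨k, (hr _ _).mpr hk⟩) (by
      rintro ⟨N, a, ha⟩ ⟨N', b, hb⟩ x hx hx'
      rw [hr] at hx hx'
      by_cases hxU : x ∈ U
      · let M : X.Opens := N ⊓ N' ⊓ U
        have hM1 : M ≤ N := inf_le_left.trans inf_le_left
        have hM2 : M ≤ N' := inf_le_left.trans inf_le_right
        refine ⟨⟨M, _, ha.res hM1⟩, X.homOfLE hM1, X.homOfLE hM2, Scheme.homOfLE_ι _ _,
          Scheme.homOfLE_ι _ _, (hr _ _).mpr ⟨⟨hx, hx'⟩, hxU⟩, ?_⟩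
        have h1 := congrArg (fun k => X.homOfLE (le_inf hM1 inf_le_right : M ≤ N ⊓ U) ≫ k) ha.agr
        have h2 := congrArg (fun k => X.homOfLE (le_inf hM2 inf_le_right : M ≤ N' ⊓ U) ≫ k) hb.agr
        simp only [Scheme.homOfLE_homOfLE_assoc] at h1 h2
        change X.homOfLE hM1 ≫ a = X.homOfLE hM2 ≫ b
        rw [h1, h2]
      · obtain ⟨W, hxW, hW⟩ := hred x hxU
        obtain ⟨V, hV, hyV, -⟩ := exists_isAffineOpen_mem_and_subset (U := (⊤ : P.Opens))
          (x := y x) trivial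
        obtain ⟨M, hM1, hM2, hxM, -, hM⟩ := agree hU h a b ha.agr hb.agr hx hx' hV
          (by rw [ha.val x hx hxU]; exact hyV) (by rw [hb.val x hx' hxU]; exact hyV) W hxW
        exact ⟨⟨M, _, ha.res hM1⟩, X.homOfLE hM1, X.homOfLE hM2, Scheme.homOfLE_ι _ _,
          Scheme.homOfLE_ι _ _, (hr _ _).mpr hxM, hM⟩)
  refine ⟨h', ?_, hh' ⟨U, h, dat_self hh⟩, ?_⟩
  · apply Scheme.hom_ext_of_forall
    intro x
    obtain ⟨k, hk⟩ := hcov' x
    refine ⟨k.1, hk, ?_⟩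
    rw [← Category.assoc, hh' k, k.2.2.sec, Category.comp_id]
  · intro x hxU
    obtain ⟨N, a, hxN, ha⟩ := hcov x hxU
    have h1 := hh' ⟨N, a, ha⟩
    have h2 : h' x = (N.ι ≫ h') ⟨x, hxN⟩ := by
      rw [Scheme.Hom.comp_apply]
      rfl
    rw [h2, h1]
    exact ha.val x hxN hxU

/-- Local extensions with the right value at one point have the right values nearby. -/
theorem exists_dat (hU : Dense (U : Set X))
    (hred : ∀ x : X, x ∉ U → ∃ W : X.Opens, x ∈ W ∧ IsReduced (W : Scheme.{u}))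
    (hloc : ∀ x : X, x ∉ U → ∃ (U' : X.Opens) (hUU' : U ≤ U') (hxU' : x ∈ U')
      (h' : (U' : Scheme.{u}) ⟶ P), h' ≫ q = U'.ι ∧ X.homOfLE hUU' ≫ h' = h ∧ h' ⟨x, hxU'⟩ = y x)
    (hcont : ∀ x : X, x ∉ U → ∀ V : P.Opens, y x ∈ V → ∃ N : X.Opens, x ∈ N ∧
      ∀ x' ∈ N, x' ∉ U → y x' ∈ V) (x : X) (hx : x ∉ U) :
    ∃ (N : X.Opens) (a : (N : Scheme.{u}) ⟶ P), x ∈ N ∧ Dat q U h y N a := by
  have hagr : ∀ (U' : X.Opens) (hUU' : U ≤ U') (h' : (U' : Scheme.{u}) ⟶ P),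
      X.homOfLE hUU' ≫ h' = h → X.homOfLE (inf_le_left : U' ⊓ U ≤ U') ≫ h' =
        X.homOfLE (inf_le_right : U' ⊓ U ≤ U) ≫ h := by
    intro U' hUU' h' hh'
    rw [← hh', Scheme.homOfLE_homOfLE_assoc]
  obtain ⟨U', hUU', hxU', h', h'q, h'h, h'x⟩ := hloc x hx
  obtain ⟨V, hV, hyV, -⟩ := exists_isAffineOpen_mem_and_subset (U := (⊤ : P.Opens))
    (x := y x) trivial
  obtain ⟨N₁, hxN₁, hN₁⟩ := hcont x hx V hyV
  let N₂ : X.Opens := U'.ι ''ᵁ (h' ⁻¹ᵁ V)
  have hxN₂ : x ∈ N₂ := ⟨⟨x, hxU'⟩, by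
    change h' ⟨x, hxU'⟩ ∈ V
    rw [h'x]
    exact hyV, rfl⟩
  have hN₂ : N₂ ≤ U' := by rintro _ ⟨w, -, rfl⟩; exact w.2
  let N : X.Opens := N₁ ⊓ N₂
  have hN : N ≤ U' := inf_le_right.trans hN₂
  refine ⟨N, X.homOfLE hN ≫ h', ⟨hxN₁, hxN₂⟩, ?_, ?_, ?_⟩
  · rw [Category.assoc, h'q, Scheme.homOfLE_ι]
  · have h1 := congrArg (fun k => X.homOfLE (inf_le_inf_right U hN : N ⊓ U ≤ U' ⊓ U) ≫ k)
      (hagr U' hUU' h' h'h)
    simp only [Scheme.homOfLE_homOfLE_assoc] at h1 ⊢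
    exact h1
  · intro w hwN hwU
    rw [Scheme.Hom.comp_apply, homOfLE_apply]
    obtain ⟨U'', hUU'', hwU'', h'', h''q, h''h, h''w⟩ := hloc w hwU
    obtain ⟨W, hwW, hW⟩ := hred w hwU
    have h1 : h' ⟨w, hN hwN⟩ ∈ V := by
      obtain ⟨w', hw', h2⟩ := hwN.2
      have h3 : w' = ⟨w, hN hwN⟩ := U'.ι.isOpenEmbedding.injective h2
      rw [← h3]
      exact hw'
    have h2 : h'' ⟨w, hwU''⟩ ∈ V := by
      rw [h''w]
      exact hN₁ w hwN.1 hwU
    obtain ⟨M, hM1, hM2, hwM, -, hM⟩ := agree hU h h' h'' (hagr U' hUU' h' h'h)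
      (hagr U'' hUU'' h'' h''h) (hN hwN) hwU'' hV h1 h2 W hwW
    have h3 := congrArg (fun k : (M : Scheme.{u}) ⟶ P => k ⟨w, hwM⟩) hM
    simp only [Scheme.Hom.comp_apply, homOfLE_apply] at h3
    rw [h3, h''w]

/-- Morphisms from the spectrum of a field with the same image and the same composite with `q`,
when the residue field extension is trivial. -/
theorem eq_of_pt {k : Type u} [Field k] (q : P ⟶ X) (α β : Spec (CommRingCat.of k) ⟶ P)
    (hq : α ≫ q = β ≫ q)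
    (hp : α (IsLocalRing.closedPoint k) = β (IsLocalRing.closedPoint k))
    (hs : Function.Surjective (q.residueFieldMap (α (IsLocalRing.closedPoint k)))) : α = β := by
  have hα := Scheme.descResidueField_stalkClosedPointTo_fromSpecResidueField k P α
  have hβ := Scheme.descResidueField_stalkClosedPointTo_fromSpecResidueField k P β
  have key : ∀ (p p' : P) (_ : p = p') (hs : Function.Surjective (q.residueFieldMap p))
      (a : P.residueField p ⟶ CommRingCat.of k) (b : P.residueField p' ⟶ CommRingCat.of k)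
      (_ : (Spec.map a ≫ P.fromSpecResidueField p) ≫ q =
        (Spec.map b ≫ P.fromSpecResidueField p') ≫ q),
      Spec.map a ≫ P.fromSpecResidueField p = Spec.map b ≫ P.fromSpecResidueField p' := by
    rintro p _ rfl hs a b h1
    rw [Category.assoc, Category.assoc, ← Scheme.Hom.SpecMap_residueFieldMap_fromSpecResidueField,
      ← Category.assoc, ← Category.assoc, ← Spec.map_comp, ← Spec.map_comp, cancel_mono,
      Spec.map_inj] at h1
    have h2 : a = b := by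
      ext t
      obtain ⟨s, rfl⟩ := hs t
      exact congr($h1 s)
    rw [h2]
  have h1 := key _ _ hp hs (Scheme.descResidueField (Scheme.stalkClosedPointTo α))
    (Scheme.descResidueField (Scheme.stalkClosedPointTo β)) (by rw [hα, hβ, hq])
  rw [hα, hβ] at h1
  exact h1

end K172.GlueZ
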