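import Groth.Agent.Etbase.SpreadOut
import Groth.Agent.Ega43.LimitDescendIso
import Groth.Agent.Ega4dB.SchDense
import Groth.Agent.Ega4late.H521.SchDenseAffine
import Groth.Agent.Ega4late.H537.SchDensePull
import Groth.Agent.Grpsch.ClosureImage
import Mathlib.AlgebraicGeometry.Noetherian

/-!
# Pseudo-morphisms and morphisms from the spectrum of a local ring

* `exists_nhd_eq` : two morphisms over `S` into a scheme locally of finite type which agree on the spectrum of a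
  local ring agree near the point;
* `exists_nhd_agree` : two morphisms `v : V ⟶ Y`, `h : U ⟶ Y` which agree on all local rings of `U ∩ V` at
  generizations of `x` agree on `U ∩ V'` for some neighbourhood `V'` of `x`.
-/

set_option autoImplicit false
universe u
open CategoryTheory CategoryTheory.Limits AlgebraicGeometry TopologicalSpace

namespace K172.StalkExtend

/-- Uniqueness of spreading out, without germ injectivity. -/
theorem exists_nhd_eq {T Y S : Scheme.{u}} (pY : Y ⟶ S) [LocallyOfFiniteType pY] (a b : T ⟶ Y)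
    (hab : a ≫ pY = b ≫ pY) (t : T) (h : T.fromSpecStalk t ≫ a = T.fromSpecStalk t ≫ b) :
    ∃ W : T.Opens, t ∈ W ∧ W.ι ≫ a = W.ι ≫ b := by
  have hlfp : LocallyOfFinitePresentation (pullback.fst (pullback.lift a b hab)
    (pullback.diagonal pY)) := inferInstance
  obtain ⟨W, hW, τ, -, hτ⟩ := Groth.Agent.Etbase.SpreadOut.spread_out_section
    (f := pullback.fst (pullback.lift a b hab) (pullback.diagonal pY))
    (pullback.lift (T.fromSpecStalk t) (T.fromSpecStalk t ≫ a) (by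
      apply pullback.hom_ext
      · rw [Category.assoc, Category.assoc, Category.assoc, pullback.lift_fst,
          pullback.diagonal_fst, Category.comp_id]
      · rw [Category.assoc, Category.assoc, Category.assoc, pullback.lift_snd,
          pullback.diagonal_snd, Category.comp_id, h])) (pullback.lift_fst _ _ _)
  refine ⟨W, hW, ?_⟩
  have e1 : W.ι ≫ a = τ ≫ pullback.snd (pullback.lift a b hab) (pullback.diagonal pY) := by
    have h1 := congr($(pullback.condition (f := pullback.lift a b hab)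
      (g := pullback.diagonal pY)) ≫ pullback.fst pY pY)
    simp only [Category.assoc, pullback.lift_fst, pullback.diagonal_fst, Category.comp_id] at h1
    rw [← hτ, Category.assoc, h1]
  have e2 : W.ι ≫ b = τ ≫ pullback.snd (pullback.lift a b hab) (pullback.diagonal pY) := by
    have h1 := congr($(pullback.condition (f := pullback.lift a b hab)
      (g := pullback.diagonal pY)) ≫ pullback.snd pY pY)
    simp only [Category.assoc, pullback.lift_snd, pullback.diagonal_snd, Category.comp_id] at h1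
    rw [← hτ, Category.assoc, h1]
  rw [e1, e2]

/-- `Spec 𝒪_{T,τ} ⟶ X` factors through `Spec 𝒪_{X,x}` when the image of `τ` specializes to `x`. -/
theorem exists_factor {T X : Scheme.{u}} (j : T ⟶ X) (τ : T) (x : X) (h : j τ ⤳ x) :
    ∃ σ : Spec (T.presheaf.stalk τ) ⟶ Spec (X.presheaf.stalk x),
      σ ≫ X.fromSpecStalk x = T.fromSpecStalk τ ≫ j := by
  refine ⟨Spec.map (X.presheaf.stalkSpecializes h ≫ j.stalkMap τ), ?_⟩
  rw [Spec.map_comp, Category.assoc, Scheme.SpecMap_stalkSpecializes_fromSpecStalk,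
    Scheme.SpecMap_stalkMap_fromSpecStalk]

/-- The hypotheses on `X` near `x` used below. -/
def Nice (X : Scheme.{u}) : Prop :=
  IsLocallyNoetherian X ∨ (IsReduced X ∧ ∀ x : ↥X, ∃ W : X.Opens, x ∈ W ∧
      {Z : Set ↥X | Z ∈ irreducibleComponents ↥X ∧ (Z ∩ (W : Set ↥X)).Nonempty}.Finite)

theorem finite_irreducibleComponents {X : Scheme.{u}} (W V : X.Opens) (hVW : V ≤ W)
    (hW : {Z : Set ↥X | Z ∈ irreducibleComponents ↥X ∧ (Z ∩ (W : Set ↥X)).Nonempty}.Finite) :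
    (irreducibleComponents ↥(V : Scheme.{u})).Finite := by
  refine (hW.image fun Z => V.ι ⁻¹' Z).subset ?_
  intro Z hZ
  have hZi : IsIrreducible (V.ι '' Z) := hZ.1.image V.ι V.ι.continuous.continuousOn
  obtain ⟨Z', hZ', hle⟩ := exists_mem_irreducibleComponents_subset_of_isIrreducible _ hZi
  have hle' : Z ⊆ V.ι ⁻¹' Z' := Set.image_subset_iff.mp hle
  refine ⟨Z', ⟨hZ', ?_⟩, ?_⟩
  · obtain ⟨z, hz⟩ := hZ.1.nonempty
    exact ⟨V.ι z, hle' hz, hVW z.2⟩
  · have hirr : IsIrreducible (V.ι ⁻¹' Z') :=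
      ⟨hZ.1.nonempty.mono hle', hZ'.1.isPreirreducible.preimage V.ι.isOpenEmbedding⟩
    exact le_antisymm (hZ.2 hirr hle') hle'

/-- An affine open neighbourhood `V₁` of `x` inside `V` and a nonzerodivisor on it whose basic open lies in
`U`. -/
theorem exists_affine {X : Scheme.{u}} (hX : Nice X) (U : X.Opens)
    (hU : CInt.IsSchematicallyDense U) (V : X.Opens) (x : X) (hx : x ∈ V) :
    ∃ V₁ : X.Opens, IsAffineOpen V₁ ∧ V₁ ≤ V ∧ x ∈ V₁ ∧
      ∃ t : Γ((V₁ : Scheme.{u}), ⊤), t ∈ nonZeroDivisors Γ((V₁ : Scheme.{u}), ⊤) ∧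
        (V₁ : Scheme.{u}).basicOpen t ≤ V₁.ι ⁻¹ᵁ U := by
  rcases hX with hX | ⟨hred, hfin⟩
  · obtain ⟨V₁, hV₁, hxV₁, hle⟩ := exists_isAffineOpen_mem_and_subset (x := x) (U := V) hx
    refine ⟨V₁, hV₁, hle, hxV₁, ?_⟩
    have : IsAffine V₁ := hV₁
    have : IsNoetherian (V₁ : Scheme.{u}) := { }
    exact Groth.Agent.Ega4late.H521.SchDenseAffine.exists_basicOpen_le_of_isNoetherian
      (Groth.Agent.Ega4late.H537.SchDensePull.isSchematicallyDense_preimage V₁.ι U hU)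
  · obtain ⟨W, hxW, hW⟩ := hfin x
    obtain ⟨V₁, hV₁, hxV₁, hle⟩ := exists_isAffineOpen_mem_and_subset (x := x) (U := V ⊓ W) ⟨hx, hxW⟩
    refine ⟨V₁, hV₁, fun y hy => (hle hy).1, hxV₁, ?_⟩
    have : IsAffine V₁ := hV₁
    have h1 := finite_irreducibleComponents W V₁ (fun y hy => (hle hy).2) hW
    exact Groth.Agent.Ega4late.H521.SchDenseAffine.exists_basicOpen_le_of_isReduced h1
      (Groth.Agent.Ega4late.H537.SchDensePull.isSchematicallyDense_preimage V₁.ι U hU)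

theorem exists_nhd_agree {X Y S : Scheme.{u}} (pY : Y ⟶ S) [IsSeparated pY]
    [LocallyOfFiniteType pY] (hX : Nice X) (U V : X.Opens) (hU : CInt.IsSchematicallyDense U)
    (h : (U : Scheme.{u}) ⟶ Y) (v : (V : Scheme.{u}) ⟶ Y)
    (hS : X.homOfLE (inf_le_right : U ⊓ V ≤ V) ≫ v ≫ pY =
      X.homOfLE (inf_le_left : U ⊓ V ≤ U) ≫ h ≫ pY) (x : X) (hx : x ∈ V)
    (hst : ∀ (T : Scheme.{u}) (a : T ⟶ V) (b : T ⟶ U) (τ : T), a ≫ V.ι = b ≫ U.ι →
      V.ι (a τ) ⤳ x → T.fromSpecStalk τ ≫ a ≫ v = T.fromSpecStalk τ ≫ b ≫ h) :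
    ∃ (V' : X.Opens) (hle : V' ≤ V), x ∈ V' ∧
      X.homOfLE (inf_le_right : U ⊓ V' ≤ V') ≫ X.homOfLE hle ≫ v =
        X.homOfLE (inf_le_left : U ⊓ V' ≤ U) ≫ h := by
  obtain ⟨V₁, hV₁, hV₁V, hxV₁, t, ht, htU⟩ := exists_affine hX U hU V x hx
  have hV₁aff : IsAffine V₁ := hV₁
  -- the affine open `T = D(t)` of `V₁`
  let O : (V₁ : Scheme.{u}).Opens := (V₁ : Scheme.{u}).basicOpen t
  let aV : (O : Scheme.{u}) ⟶ V := O.ι ≫ X.homOfLE hV₁V
  have hbU : Set.range (O.ι ≫ V₁.ι) ⊆ Set.range U.ι := by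
    rintro _ ⟨z, rfl⟩
    rw [Scheme.Opens.range_ι, Scheme.Hom.comp_apply]
    exact htU z.2
  let bU : (O : Scheme.{u}) ⟶ U := IsOpenImmersion.lift U.ι (O.ι ≫ V₁.ι) hbU
  have hbU' : bU ≫ U.ι = O.ι ≫ V₁.ι := IsOpenImmersion.lift_fac _ _ _
  have haV' : aV ≫ V.ι = O.ι ≫ V₁.ι := by simp [aV]
  have hab : (aV ≫ v) ≫ pY = (bU ≫ h) ≫ pY := by
    have hr : Set.range (O.ι ≫ V₁.ι) ⊆ Set.range (U ⊓ V).ι := by
      rintro _ ⟨z, rfl⟩
      rw [Scheme.Opens.range_ι, Scheme.Hom.comp_apply]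
      exact ⟨htU z.2, hV₁V (O.ι z).2⟩
    let c : (O : Scheme.{u}) ⟶ ((U ⊓ V : X.Opens) : Scheme.{u}) :=
      IsOpenImmersion.lift (U ⊓ V).ι (O.ι ≫ V₁.ι) hr
    have hc : c ≫ (U ⊓ V).ι = O.ι ≫ V₁.ι := IsOpenImmersion.lift_fac _ _ _
    have h1 : c ≫ X.homOfLE (inf_le_right : U ⊓ V ≤ V) = aV := by
      rw [← cancel_mono V.ι, haV', Category.assoc, Scheme.homOfLE_ι, hc]
    have h2 : c ≫ X.homOfLE (inf_le_left : U ⊓ V ≤ U) = bU := by
      rw [← cancel_mono U.ι, hbU', Category.assoc, Scheme.homOfLE_ι, hc]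
    rw [← h1, ← h2]
    simp only [Category.assoc]
    rw [hS]
  -- the locus of agreement
  let N : (O : Scheme.{u}).Opens :=
    ⟨{τ | ∃ W : (O : Scheme.{u}).Opens, τ ∈ W ∧ W.ι ≫ aV ≫ v = W.ι ≫ bU ≫ h}, by
      rw [isOpen_iff_forall_mem_open]
      rintro τ ⟨W, hW, hWe⟩
      exact ⟨W, fun z hz => ⟨W, hz, hWe⟩, W.isOpen, hW⟩⟩
  have hN : ∀ τ : (O : Scheme.{u}), V₁.ι (O.ι τ) ⤳ x → τ ∈ N := by
    intro τ hτ
    have h1 : V.ι (aV τ) ⤳ x := by
      rw [← Scheme.Hom.comp_apply, haV']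
      exact hτ
    have h2 := hst _ aV bU τ (haV'.trans hbU'.symm) h1
    exact exists_nhd_eq pY (aV ≫ v) (bU ≫ h) hab τ h2
  have hOaff : IsAffine (O : Scheme.{u}) := (isAffineOpen_top _).basicOpen t
  have hqc : QuasiCompact O.ι := inferInstance
  -- the closed set where they differ
  let C : Set (O : Scheme.{u}) := (N : Set (O : Scheme.{u}))ᶜ
  have hC : IsClosed C := N.isOpen.isClosed_compl
  let D : (V₁ : Scheme.{u}).Opens := ⟨(closure (O.ι '' C))ᶜ, isClosed_closure.isOpen_compl⟩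
  have hxD : (⟨x, hxV₁⟩ : (V₁ : Scheme.{u})) ∈ D := by
    intro hmem
    obtain ⟨c, hc, hcx⟩ := Groth.Agent.Grpsch.ClosureImage.exists_specializes_of_mem_closure_image
      O.ι hC hmem
    exact hc (hN c (hcx.map V₁.ι.continuous))
  have hDO : ∀ τ : (O : Scheme.{u}), O.ι τ ∈ D → τ ∈ N := by
    intro τ hτ
    by_contra h1
    exact hτ (subset_closure ⟨τ, h1, rfl⟩)
  let V' : X.Opens := V₁.ι ''ᵁ D
  have hV'1 : V' ≤ V₁ := by
    rintro _ ⟨z, -, rfl⟩
    exact z.2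
  have hV'V : V' ≤ V := hV'1.trans hV₁V
  refine ⟨V', hV'V, ⟨⟨x, hxV₁⟩, hxD, rfl⟩, ?_⟩
  -- schematic density
  let r : ((U ⊓ V' : X.Opens) : Scheme.{u}) ⟶ (V₁ : Scheme.{u}) :=
    X.homOfLE (inf_le_right.trans hV'1)
  have hdense : CInt.IsSchematicallyDense (r ⁻¹ᵁ O) :=
    Groth.Agent.Ega4late.H537.SchDensePull.isSchematicallyDense_preimage r O
      (Groth.Agent.Ega4late.H521.SchDenseAffine.isSchematicallyDense_of_basicOpen_le ht le_rfl)
  refine Groth.Agent.Ega4dB.SchDense.ext_of_isSchematicallyDense pY ?_ _ hdense ?_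
  · have h1 : X.homOfLE (inf_le_right : U ⊓ V' ≤ V') ≫ X.homOfLE hV'V =
        X.homOfLE (inf_le_inf_left U hV'V) ≫ X.homOfLE (inf_le_right : U ⊓ V ≤ V) := by
      simp
    have h2 : X.homOfLE (inf_le_left : U ⊓ V' ≤ U) =
        X.homOfLE (inf_le_inf_left U hV'V) ≫ X.homOfLE (inf_le_left : U ⊓ V ≤ U) := by
      simp
    rw [h2]
    simp only [Category.assoc]
    rw [← hS, reassoc_of% h1]
  · apply Scheme.hom_ext_of_forall
    intro z
    let ρ : ((r ⁻¹ᵁ O : ((U ⊓ V' : X.Opens) : Scheme.{u}).Opens) : Scheme.{u}) ⟶ (O : Scheme.{u}) :=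
      r ∣_ O
    have hρ : ρ ≫ O.ι = (r ⁻¹ᵁ O).ι ≫ r := morphismRestrict_ι _ _
    have hz : ρ z ∈ N := by
      apply hDO
      rw [← Scheme.Hom.comp_apply, hρ, Scheme.Hom.comp_apply]
      have h1 : V₁.ι (r ((r ⁻¹ᵁ O).ι z)) ∈ V' := by
        rw [← Scheme.Hom.comp_apply, Scheme.homOfLE_ι]
        exact ((r ⁻¹ᵁ O).ι z).2.2
      obtain ⟨d, hd, hde⟩ := h1
      rwa [← V₁.ι.isOpenEmbedding.injective hde]
    obtain ⟨W, hzW, hWe⟩ := hz
    refine ⟨ρ ⁻¹ᵁ W, hzW, ?_⟩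
    have e1 : (r ⁻¹ᵁ O).ι ≫ X.homOfLE (inf_le_right : U ⊓ V' ≤ V') ≫ X.homOfLE hV'V ≫ v =
        ρ ≫ aV ≫ v := by
      have : (r ⁻¹ᵁ O).ι ≫ X.homOfLE (inf_le_right : U ⊓ V' ≤ V') ≫ X.homOfLE hV'V = ρ ≫ aV := by
        rw [← cancel_mono V.ι]
        simp only [Category.assoc, haV', Scheme.homOfLE_ι]
        rw [reassoc_of% hρ, Scheme.homOfLE_ι]
      simpa only [Category.assoc] using congr($this ≫ v)
    have e2 : (r ⁻¹ᵁ O).ι ≫ X.homOfLE (inf_le_left : U ⊓ V' ≤ U) ≫ h = ρ ≫ bU ≫ h := by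
      have : (r ⁻¹ᵁ O).ι ≫ X.homOfLE (inf_le_left : U ⊓ V' ≤ U) = ρ ≫ bU := by
        rw [← cancel_mono U.ι]
        simp only [Category.assoc, hbU', Scheme.homOfLE_ι]
        rw [reassoc_of% hρ, Scheme.homOfLE_ι]
      simpa only [Category.assoc] using congr($this ≫ h)
    rw [e1, e2]
    have hW2 : (ρ ⁻¹ᵁ W).ι ≫ ρ = (ρ ∣_ W) ≫ W.ι := (morphismRestrict_ι _ _).symm
    rw [reassoc_of% hW2, hWe, reassoc_of% hW2]

/-- S5104 -/
theorem main {X Y S : Scheme.{u}} (pX : X ⟶ S) (pY : Y ⟶ S)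
    [IsSeparated pY] [LocallyOfFinitePresentation pY] (hX : Nice X)
    (U : X.Opens) (hU : CInt.IsSchematicallyDense U) (h : (U : Scheme.{u}) ⟶ Y)
    (hh : h ≫ pY = U.ι ≫ pX) (x : ↥X) :
    (∃ (V : X.Opens) (v : (V : Scheme.{u}) ⟶ Y), x ∈ V ∧ v ≫ pY = V.ι ≫ pX ∧
        X.homOfLE (inf_le_right : U ⊓ V ≤ V) ≫ v = X.homOfLE (inf_le_left : U ⊓ V ≤ U) ≫ h) ↔
      ∃ w : Spec (X.presheaf.stalk x) ⟶ Y, w ≫ pY = X.fromSpecStalk x ≫ pX ∧
        pullback.fst (X.fromSpecStalk x) U.ι ≫ w = pullback.snd (X.fromSpecStalk x) U.ι ≫ h := by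
  constructor
  · rintro ⟨V, v, hxV, hv, hvh⟩
    refine ⟨V.fromSpecStalkOfMem x hxV ≫ v, ?_, ?_⟩
    · rw [Category.assoc, hv, Scheme.Opens.fromSpecStalkOfMem_ι_assoc]
    · have hr : Set.range (pullback.fst (X.fromSpecStalk x) U.ι ≫ X.fromSpecStalk x) ⊆
          Set.range (U ⊓ V).ι := by
        rintro _ ⟨z, rfl⟩
        rw [Scheme.Opens.range_ι]
        refine ⟨?_, ?_⟩
        · rw [pullback.condition, Scheme.Hom.comp_apply]
          exact (pullback.snd (X.fromSpecStalk x) U.ι z).2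
        · have h1 : pullback.fst (X.fromSpecStalk x) U.ι ≫ X.fromSpecStalk x =
              (pullback.fst (X.fromSpecStalk x) U.ι ≫ V.fromSpecStalkOfMem x hxV) ≫ V.ι := by
            rw [Category.assoc, Scheme.Opens.fromSpecStalkOfMem_ι]
          rw [h1, Scheme.Hom.comp_apply]
          exact ((pullback.fst (X.fromSpecStalk x) U.ι ≫ V.fromSpecStalkOfMem x hxV) z).2
      let c := IsOpenImmersion.lift (U ⊓ V).ι _ hr
      have hc : c ≫ (U ⊓ V).ι = _ := IsOpenImmersion.lift_fac _ _ hr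
      have h1 : c ≫ X.homOfLE (inf_le_right : U ⊓ V ≤ V) =
          pullback.fst (X.fromSpecStalk x) U.ι ≫ V.fromSpecStalkOfMem x hxV := by
        rw [← cancel_mono V.ι]
        simp only [Category.assoc, Scheme.homOfLE_ι, hc, Scheme.Opens.fromSpecStalkOfMem_ι]
      have h2 : c ≫ X.homOfLE (inf_le_left : U ⊓ V ≤ U) =
          pullback.snd (X.fromSpecStalk x) U.ι := by
        rw [← cancel_mono U.ι]
        simp only [Category.assoc, Scheme.homOfLE_ι, hc]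
        exact pullback.condition
      rw [← Category.assoc, ← h1, Category.assoc, hvh, ← Category.assoc, h2]
  · rintro ⟨w, hw, hwh⟩
    obtain ⟨V, hxV, v, hv, hvS⟩ := Groth.Agent.Etbase.SpreadOut.spread_out' (sX := pX) (sY := pY) w hw
    obtain ⟨V', hle, hxV', hV'⟩ := exists_nhd_agree pY hX U V hU h v (by
      rw [hvS, hh]
      simp) x hxV (by
      intro T a b τ hab hτ
      obtain ⟨σ, hσ⟩ := exists_factor (a ≫ V.ι) τ x (by
        rw [Scheme.Hom.comp_apply]; exact hτ)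
      have h1 : σ ≫ V.fromSpecStalkOfMem x hxV = T.fromSpecStalk τ ≫ a := by
        rw [← cancel_mono V.ι, Category.assoc, Scheme.Opens.fromSpecStalkOfMem_ι, hσ,
          Category.assoc]
      have h2 : T.fromSpecStalk τ ≫ a ≫ v = σ ≫ w := by
        rw [hv, reassoc_of% h1]
      rw [h2]
      have h3 : σ ≫ X.fromSpecStalk x = (T.fromSpecStalk τ ≫ b) ≫ U.ι := by
        rw [hσ, hab, Category.assoc]
      have h4 := congr(pullback.lift σ (T.fromSpecStalk τ ≫ b) h3 ≫ $hwh)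
      rw [pullback.lift_fst_assoc, pullback.lift_snd_assoc] at h4
      rw [h4, Category.assoc])
    refine ⟨V', X.homOfLE hle ≫ v, hxV', ?_, hV'⟩
    rw [Category.assoc, hvS, Scheme.homOfLE_ι_assoc]

end K172.StalkExtend
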