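import Groth.Agent.Rat20.K172.GlueZ
import Groth.Agent.Pur21.K172.Nhd
import Mathlib.AlgebraicGeometry.Morphisms.Flat

/-!
# Sections over a closed subscheme; density of inverse images
-/

set_option autoImplicit false
universe u
open CategoryTheory CategoryTheory.Limits AlgebraicGeometry TopologicalSpace

namespace K172.ZSection

open K172.GlueZ

variable {X Y Z P S : Scheme.{u}}

theorem residueFieldMap_surjective_of_closed (i : Z ⟶ X) [IsClosedImmersion i] (z : Z) :
    Function.Surjective (i.residueFieldMap z) := by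
  have h := Scheme.residue_residueFieldMap i z
  have h2 : Function.Surjective (i.stalkMap z ≫ Z.residue z) :=
    (Z.residue_surjective z).comp (Scheme.Hom.stalkMap_surjective i z)
  rw [← h] at h2
  exact Function.Surjective.of_comp (g := X.residue (i z)) h2

theorem residueFieldMap_surjective (s : Z ⟶ P) (q : P ⟶ X) [IsClosedImmersion (s ≫ q)] (z : Z) :
    Function.Surjective (q.residueFieldMap (s z)) := by
  intro t
  obtain ⟨v, hv⟩ := residueFieldMap_surjective_of_closed (s ≫ q) z (s.residueFieldMap z t)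
  refine ⟨v, (s.residueFieldMap z).hom.injective ?_⟩
  rw [Scheme.residueFieldMap_comp] at hv
  exact hv

/-- Morphisms which agree at the points, with closed composite. -/
theorem hom_ext_pointwise [IsReduced Z] (s t : Z ⟶ P) (q : P ⟶ X) (h : s ≫ q = t ≫ q)
    [IsClosedImmersion (s ≫ q)] (hst : ∀ z, s z = t z) : s = t := by
  apply Scheme.hom_ext_of_forall
  intro z
  obtain ⟨V, hV, hsV, -⟩ := exists_isAffineOpen_mem_and_subset (U := (⊤ : P.Opens))
    (x := s z) trivial
  let N : Z.Opens := s ⁻¹ᵁ V ⊓ t ⁻¹ᵁ V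
  have hzN : z ∈ N := ⟨hsV, by
    change t z ∈ V
    rw [← hst]
    exact hsV⟩
  refine ⟨N, hzN, ?_⟩
  have hVaff : IsAffine (V : Scheme.{u}) := hV
  let a := IsOpenImmersion.lift V.ι (N.ι ≫ s) (by
    rintro _ ⟨w, rfl⟩
    rw [Scheme.Opens.range_ι, Scheme.Hom.comp_apply]
    exact w.2.1)
  let b := IsOpenImmersion.lift V.ι (N.ι ≫ t) (by
    rintro _ ⟨w, rfl⟩
    rw [Scheme.Opens.range_ι, Scheme.Hom.comp_apply]
    exact w.2.2)
  have ha : a ≫ V.ι = N.ι ≫ s := IsOpenImmersion.lift_fac _ _ _
  have hb : b ≫ V.ι = N.ι ≫ t := IsOpenImmersion.lift_fac _ _ _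
  have hN : IsReduced (N : Scheme.{u}) := isReduced_of_isOpenImmersion N.ι
  have key : a = b := by
    refine ext_of_fromSpecResidueField_eq a b (terminal.from _) Set.univ dense_univ (fun w _ => ?_)
      (terminal.hom_ext _ _)
    rw [← cancel_mono V.ι, Category.assoc, Category.assoc, ha, hb]
    have hw : (N : Scheme.{u}).fromSpecResidueField w (IsLocalRing.closedPoint _) = w :=
      Scheme.fromSpecResidueField_apply _ _
    refine eq_of_pt (k := (N : Scheme.{u}).residueField w) q _ _ ?_ ?_ ?_
    · rw [Category.assoc, Category.assoc, Category.assoc, Category.assoc, h]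
    · rw [Scheme.Hom.comp_apply, Scheme.Hom.comp_apply, Scheme.Hom.comp_apply,
        Scheme.Hom.comp_apply]
      exact hst _
    · rw [Scheme.Hom.comp_apply, Scheme.Hom.comp_apply]
      exact residueFieldMap_surjective s q _
  rw [← ha, ← hb, key]

/-- Lifting a point of the target of a closed immersion. -/
theorem exists_lift_closed {k : Type u} [Field k] (i : Z ⟶ X) [IsClosedImmersion i]
    (α : Spec (CommRingCat.of k) ⟶ X) (z : Z) (hz : α (IsLocalRing.closedPoint k) = i z) :
    ∃ a : Spec (CommRingCat.of k) ⟶ Z, a ≫ i = α ∧ a (IsLocalRing.closedPoint k) = z := by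
  have hα := Scheme.descResidueField_stalkClosedPointTo_fromSpecResidueField k X α
  have key : ∀ (p : X) (_ : p = i z) (b : X.residueField p ⟶ CommRingCat.of k),
      ∃ a : Spec (CommRingCat.of k) ⟶ Z, a ≫ i = Spec.map b ≫ X.fromSpecResidueField p ∧
        a (IsLocalRing.closedPoint k) = z := by
    rintro _ rfl b
    have hiso : IsIso (i.residueFieldMap z) :=
      (ConcreteCategory.isIso_iff_bijective _).mpr
        ⟨(i.residueFieldMap z).hom.injective, residueFieldMap_surjective_of_closed i z⟩
    refine ⟨Spec.map (inv (i.residueFieldMap z) ≫ b) ≫ Z.fromSpecResidueField z, ?_, ?_⟩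
    · rw [Category.assoc, ← Scheme.Hom.SpecMap_residueFieldMap_fromSpecResidueField, ← Category.assoc,
        ← Spec.map_comp, IsIso.hom_inv_id_assoc]
    · rw [Scheme.Hom.comp_apply]
      exact Scheme.fromSpecResidueField_apply _ _
  obtain ⟨a, ha, haz⟩ := key _ hz (Scheme.descResidueField (Scheme.stalkClosedPointTo α))
  exact ⟨a, ha.trans hα, haz⟩

/-- Maximal points of a locally Noetherian scheme lie in every dense open. -/
theorem mem_of_maximal [IsLocallyNoetherian S] {U : S.Opens} (hU : Dense (U : Set S)) {η : S}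
    (hη : ∀ z, z ⤳ η → z = η) : η ∈ U := by
  obtain ⟨N, hηN, hN⟩ := K172.Nhd.exists_nhd_closure (F := Set.univ) isClosed_univ (z := η)
    trivial (fun z _ hz => hη z hz)
  obtain ⟨w, hwN, hwU⟩ := hU.inter_open_nonempty (N : Set S) N.2 ⟨η, hηN⟩
  exact (hN w hwN trivial).mem_open U.2 hwU

/-- The inverse image of a dense open under a flat morphism is dense. -/
theorem dense_preimage [IsLocallyNoetherian S] (f : X ⟶ S) [Flat f] {U : S.Opens}
    (hU : Dense (U : Set S)) : Dense ((f ⁻¹ᵁ U : X.Opens) : Set X) := by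
  intro x
  obtain ⟨ξ, hξx, hξ⟩ : ∃ ξ : X, ξ ⤳ x ∧ ∀ z, z ⤳ ξ → z = ξ := by
    obtain ⟨η, hη⟩ := QuasiSober.sober (isIrreducible_irreducibleComponent (x := x))
      isClosed_irreducibleComponent
    refine ⟨η, hη.specializes mem_irreducibleComponent, fun z hz => ?_⟩
    have h1 : closure {η} ⊆ closure {z} :=
      closure_minimal (Set.singleton_subset_iff.mpr (specializes_iff_mem_closure.mp hz))
        isClosed_closure
    rw [hη.def] at h1
    have h2 := (irreducibleComponent_mem_irreducibleComponents x).2 isIrreducible_singleton.closure h1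
    rw [← hη.def] at h2
    exact ((specializes_iff_mem_closure.mpr (h2 (subset_closure rfl))).antisymm hz).eq.symm
  have h1 : f ξ ∈ U := by
    apply mem_of_maximal hU
    intro z hz
    obtain ⟨ξ', hξ', rfl⟩ := (Flat.generalizingMap f) hz
    rw [hξ ξ' hξ']
  rw [mem_closure_iff]
  intro O hO hxO
  exact ⟨ξ, hξx.mem_open hO hxO, h1⟩

end K172.ZSection
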